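import Cfsg.Agent.H127.Gx.EEight
import Cfsg.Agent.Nodes.RGDChev

/-!
# S4327, `E₈(q)`: from `X r`, `X (-r)` with 5 conjugates to everything with 11 conjugates (helper127, H2)
-/

set_option autoImplicit false
set_option linter.unusedSectionVars false

namespace Cfsg.Agent.H127.Gx

open CoxeterSystem Cfsg.Agent.ChevalleyStructure.CoxeterGeom Cfsg.Agent.Tits.Roots Cfsg.Agent.Tits.Core
  Cfsg.Agent.Tits.Exchange Cfsg.Agent.Nodes.Reps Cfsg.Agent.Nodes.BNOf Cfsg.Agent.Nodes.StabComb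
  Cfsg.Agent.Nodes.Bruhat Cfsg.Agent.Nodes.OppDec Cfsg.Agent.Nodes.PosPair Cfsg.Agent.Nodes.Coroot
  Cfsg.Agent.KFacts.RgdSL Cfsg.Agent.H441.GS
open Cfsg.Agent.H915.Gs (Reach)
open Cfsg.Agent.Nodes.RGDChev (IsType)
open Cfsg.Lie (chevE8)

variable {W Y : Type*} [Group W] [Group Y] [Finite W] {cs : CoxeterSystem CoxeterMatrix.E₈ W}
  {A : Fin 8 → Fin 8 → ℤ} {h : IsCartan CoxeterMatrix.E₈ A} {p : ℕ} {T : Subgroup Y} {n : Fin 8 → Y}
  {X : (Fin 8 → ℤ) → Subgroup Y}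

theorem cpr_neg_sr_sr {i j : Fin 8} (hij : C8 j i = -1) : cpr cs h (-sr i) (sr j) = 1 := by
  rw [cpr_neg_left _ (isRoot_sr cs h j), cpr_sr, cart_eq h]
  unfold pairing
  rw [Finset.sum_eq_single i]
  · rw [sr_self, hij]; norm_num
  · intro k _ hk; rw [sr_ne hk, mul_zero]
  · intro hi; exact absurd (Finset.mem_univ i) hi

/-- **from one pair of opposite root groups reached by `k` conjugates to everything with `k + 6` conjugates** -/
theorem e8_pair (R : RGD cs h p T n X) {r : Fin 8 → ℤ} (L : LongR R r)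
    (hall : ∀ x, IsRoot cs h x → Orb cs h r x) (hG : RGD.Sup X {x | IsRoot cs h x} = ⊤) {a : MulAut Y}
    (ha : ∀ x, a x ∈ X r ↔ x ∈ X (-r)) {k : ℕ} (hk : Reach a k (X r ⊔ X (-r))) : Reach a (k + 6) ⊤ := by
  have hr := L.root
  have hsr : ∀ i, Orb cs h r (sr i) := fun i => hall _ (isRoot_sr cs h i)
  -- the node in the middle of `D₄`
  obtain ⟨w, hw⟩ := hsr 3
  obtain ⟨g, hg⟩ := exists_rp cs R.nsys w
  have h0 := hk.conj g
  have e1 : Cfsg.Agent.H915.Gs.cj g (X r) = X (sr 3) := (R.conj_rp hg hr).trans (by rw [hw])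
  have e2 : Cfsg.Agent.H915.Gs.cj g (X (-r)) = X (-sr 3) := (R.conj_rp hg hr.neg).trans (by rw [map_neg, hw])
  rw [Cfsg.Agent.H915.Gs.cj, Subgroup.map_sup, ← Cfsg.Agent.H915.Gs.cj, ← Cfsg.Agent.H915.Gs.cj, e1, e2] at h0
  have a3 : X (sr 3) ≤ X (sr 3) ⊔ X (-sr 3) := le_sup_left
  have a3' : X (-sr 3) ≤ X (sr 3) ⊔ X (-sr 3) := le_sup_right
  obtain ⟨J₁, r₁, l₁, b₁, b₁'⟩ := chain_step R L ha ((hsr 3).neg hr) (hsr 1)
    (cpr_neg_sr_sr (by decide)) h0 a3' (by rw [neg_neg]; exact a3)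
  obtain ⟨J₂, r₂, l₂, b₂, b₂'⟩ := chain_step R L ha ((hsr 3).neg hr) (hsr 2)
    (cpr_neg_sr_sr (by decide)) r₁ (a3'.trans l₁) (by rw [neg_neg]; exact a3.trans l₁)
  obtain ⟨J₃, r₃, l₃, b₃, b₃'⟩ := chain_step R L ha ((hsr 3).neg hr) (hsr 4)
    (cpr_neg_sr_sr (by decide)) r₂ (a3'.trans (l₁.trans l₂)) (by rw [neg_neg]; exact a3.trans (l₁.trans l₂))
  have h5 := e8_top R hG hr ha hsr r₃ (fun i hi => by
    simp only [Finset.mem_insert, Finset.mem_singleton] at hi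
    rcases hi with rfl | rfl | rfl | rfl
    · exact ⟨b₁.trans (l₂.trans l₃), b₁'.trans (l₂.trans l₃)⟩
    · exact ⟨b₂.trans l₃, b₂'.trans l₃⟩
    · exact ⟨a3.trans (l₁.trans (l₂.trans l₃)), a3'.trans (l₁.trans (l₂.trans l₃))⟩
    · exact ⟨b₃, b₃'⟩)
  exact h5

/-- the form wanted in the row of `E₈(q)` -/
theorem e8_double (hp : IsType chevE8 8 CoxeterMatrix.E₈) (R : RGD cs hp.isCartan p T n X) {r : Fin 8 → ℤ}
    (L : LongR R r) (hall : ∀ x, IsRoot cs hp.isCartan x → Orb cs hp.isCartan r x)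
    (hG : RGD.Sup X {x | IsRoot cs hp.isCartan x} = ⊤) {a : MulAut Y} (ha : ∀ x, a x ∈ X r ↔ x ∈ X (-r))
    (h5 : Reach a 5 (X r ⊔ X (-r))) : Reach a 11 ⊤ := e8_pair R L hall hG ha h5

end Cfsg.Agent.H127.Gx
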