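import Cfsg.Agent.H127.Gx.Step
import Cfsg.Agent.H441.GS.Chain
import Cfsg.Agent.OddHalf.SL.Index

/-!
# S4327, `E₈(q)`: from the nodes of `D₄` to `E₈` with three more conjugates (helper127, H2)

* `ok_imp` : closure certificates for sets of roots of `E₈`;
* `e8_three`, `e8_top` : `X (± α_i) ≤ J` for the four nodes of `D₄` and `Reach a k J` give `Reach a (k + 3) ⊤`.
-/

set_option autoImplicit false
set_option linter.unusedSectionVars false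

namespace Cfsg.Agent.H127.Gx

/-- the Cartan matrix of `E₈` -/
def C8 : Fin 8 → Fin 8 → ℤ := ![![2, 0, -1, 0, 0, 0, 0, 0], ![0, 2, 0, -1, 0, 0, 0, 0], ![-1, 0, 2, -1, 0, 0, 0, 0],
  ![0, -1, -1, 2, -1, 0, 0, 0], ![0, 0, 0, -1, 2, -1, 0, 0], ![0, 0, 0, 0, -1, 2, -1, 0],
  ![0, 0, 0, 0, 0, -1, 2, -1], ![0, 0, 0, 0, 0, 0, -1, 2]]

theorem C8_diag : ∀ i : Fin 8, C8 i i = 2 := by decide

set_option backward.isDefEq.respectTransparency false in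
theorem C8_off : ∀ i j : Fin 8, i ≠ j →
    (CoxeterMatrix.E₈ i j = 2 ∧ C8 i j = 0) ∨ (CoxeterMatrix.E₈ i j = 3 ∧ C8 i j = -1) := by decide

set_option backward.isDefEq.respectTransparency false in
theorem h4 : ∀ i j : Fin 8, CoxeterMatrix.E₈ i j ≠ 4 := by decide

set_option backward.isDefEq.respectTransparency false in
theorem h6 : ∀ i j : Fin 8, CoxeterMatrix.E₈ i j ≠ 6 := by decide

open CoxeterSystem Cfsg.Agent.ChevalleyStructure.CoxeterGeom Cfsg.Agent.Tits.Roots Cfsg.Agent.Tits.Core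
  Cfsg.Agent.Tits.Exchange Cfsg.Agent.Nodes.Reps Cfsg.Agent.Nodes.BNOf Cfsg.Agent.Nodes.StabComb
  Cfsg.Agent.Nodes.Bruhat Cfsg.Agent.Nodes.OppDec Cfsg.Agent.Nodes.PosPair Cfsg.Agent.Nodes.Coroot
  Cfsg.Agent.KFacts.RgdSL
open Cfsg.Agent.H915.Gs (Reach)
open Cfsg.Agent.OddHalf.SL.Index (Bf bf_eq_cpr)

/-! ### certificates -/

/-- list to vector -/
def toF : List ℤ → (Fin 8 → ℤ)
  | [a0, a1, a2, a3, a4, a5, a6, a7] => ![a0, a1, a2, a3, a4, a5, a6, a7]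
  | _ => 0

/-- the form on lists -/
def ipl : List ℤ → List ℤ → ℤ
  | [a0, a1, a2, a3, a4, a5, a6, a7], [b0, b1, b2, b3, b4, b5, b6, b7] =>
    2 * (a0 * b0 + a1 * b1 + a2 * b2 + a3 * b3 + a4 * b4 + a5 * b5 + a6 * b6 + a7 * b7) -
      (a0 * b2 + a2 * b0 + a1 * b3 + a3 * b1 + a2 * b3 + a3 * b2 + a3 * b4 + a4 * b3 + a4 * b5 + a5 * b4 +
        a5 * b6 + a6 * b5 + a6 * b7 + a7 * b6)
  | _, _ => 0

/-- sums of lists -/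
def ad (a b : List ℤ) : List ℤ := List.zipWith (· + ·) a b

theorem ipl_eq {a b : List ℤ} (h : ipl a b ≠ 0) : Bf C8 (toF a) (toF b) = ipl a b ∧ toF (ad a b) = toF a + toF b := by
  unfold ipl at h ⊢
  split
  · rename_i a0 a1 a2 a3 a4 a5 a6 a7 b0 b1 b2 b3 b4 b5 b6 b7
    constructor
    · unfold Bf pairing
      simp only [toF, Fin.sum_univ_eight, C8]
      simp
      ring
    · ext i
      fin_cases i <;> rfl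
  · rename_i hne
    split at h
    · exact absurd rfl (hne _ _ _ _ _ _ _ _ _ _ _ _ _ _ _ _ rfl)
    · exact absurd rfl h

/-- the check -/
def chk : List (List ℤ) → List (List ℤ × List ℤ) → Option (List (List ℤ))
  | L, [] => some L
  | L, (a, b) :: s => if L.contains a && L.contains b && (ipl a b == -1) then chk (ad a b :: L) s else none

/-- the check with targets -/
def ok (L : List (List ℤ)) (s : List (List ℤ × List ℤ)) (t : List (List ℤ)) : Bool :=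
  match chk L s with
  | some L' => t.all fun a => L'.contains a
  | none => false

theorem chk_mem {P : (Fin 8 → ℤ) → Prop} (hP : ∀ x y, P x → P y → Bf C8 x y = -1 → P (x + y)) :
    ∀ (s : List (List ℤ × List ℤ)) (L L' : List (List ℤ)), chk L s = some L' → (∀ a ∈ L, P (toF a)) →
      ∀ a ∈ L', P (toF a) := by
  intro s
  induction s with
  | nil =>
    intro L L' h hL
    simp only [chk, Option.some.injEq] at h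
    rwa [← h]
  | cons ab s ih =>
    obtain ⟨a, b⟩ := ab
    intro L L' h hL
    simp only [chk] at h
    split at h
    · rename_i hc
      simp only [Bool.and_eq_true, List.contains_iff_mem, beq_iff_eq] at hc
      obtain ⟨⟨ha, hb⟩, hi⟩ := hc
      obtain ⟨h1, h2⟩ := ipl_eq (a := a) (b := b) (by rw [hi]; norm_num)
      refine ih _ _ h ?_
      intro c hc
      rcases List.mem_cons.1 hc with rfl | hc
      · rw [h2]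
        exact hP _ _ (hL a ha) (hL b hb) (by rw [h1, hi])
      · exact hL c hc
    · exact absurd h (by simp)

theorem ok_imp {P : (Fin 8 → ℤ) → Prop} (hP : ∀ x y, P x → P y → Bf C8 x y = -1 → P (x + y))
    {L : List (List ℤ)} {s : List (List ℤ × List ℤ)} {t : List (List ℤ)} (h : ok L s t = true)
    (hL : ∀ a ∈ L, P (toF a)) : ∀ a ∈ t, P (toF a) := by
  unfold ok at h
  split at h
  · rename_i L' hL'
    intro a ha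
    rw [List.all_eq_true] at h
    have h1 := h a ha
    rw [List.contains_iff_mem] at h1
    exact chk_mem hP s L L' hL' hL a h1
  · exact absurd h (by simp)

/-- the simple roots and their negatives -/
def L1 : List (List ℤ) := [[1, 0, 0, 0, 0, 0, 0, 0],
  [0, 1, 0, 0, 0, 0, 0, 0],
  [0, 0, 1, 0, 0, 0, 0, 0],
  [0, 0, 0, 1, 0, 0, 0, 0],
  [0, 0, 0, 0, 1, 0, 0, 0],
  [0, 0, 0, 0, 0, 1, 0, 0],
  [0, 0, 0, 0, 0, 0, 1, 0],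
  [0, 0, 0, 0, 0, 0, 0, 1],
  [-1, 0, 0, 0, 0, 0, 0, 0],
  [0, -1, 0, 0, 0, 0, 0, 0],
  [0, 0, -1, 0, 0, 0, 0, 0],
  [0, 0, 0, -1, 0, 0, 0, 0],
  [0, 0, 0, 0, -1, 0, 0, 0],
  [0, 0, 0, 0, 0, -1, 0, 0],
  [0, 0, 0, 0, 0, 0, -1, 0],
  [0, 0, 0, 0, 0, 0, 0, -1]]

/-- derivation -/
def S1 : List (List ℤ × List ℤ) := [([0, 0, 0, 0, 0, 1, 0, 0], [0, 0, 0, 0, 1, 0, 0, 0]),
  ([0, 0, 0, 0, 1, 1, 0, 0], [0, 0, 0, 0, 0, 0, 1, 0]),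
  ([0, 0, 0, 0, -1, 0, 0, 0], [0, 0, 0, 0, 0, -1, 0, 0]),
  ([0, 0, 0, 0, 0, 0, -1, 0], [0, 0, 0, 0, 0, 0, 0, -1]),
  ([0, 0, 0, 0, -1, -1, 0, 0], [0, 0, 0, 0, 0, 0, -1, -1]),
  ([0, 0, 0, -1, 0, 0, 0, 0], [0, 0, 0, 0, -1, -1, -1, -1]),
  ([0, 0, 1, 0, 0, 0, 0, 0], [1, 0, 0, 0, 0, 0, 0, 0]),
  ([0, 0, 0, 1, 0, 0, 0, 0], [0, 1, 0, 0, 0, 0, 0, 0]),
  ([1, 0, 1, 0, 0, 0, 0, 0], [0, 1, 0, 1, 0, 0, 0, 0]),
  ([0, 0, 0, 0, 1, 1, 0, 0], [1, 1, 1, 1, 0, 0, 0, 0]),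
  ([0, 0, 0, 1, 0, 0, 0, 0], [0, 0, 0, 0, 1, 0, 0, 0]),
  ([0, 0, 1, 0, 0, 0, 0, 0], [0, 0, 0, 1, 1, 0, 0, 0]),
  ([0, 0, 0, 0, 0, 0, 1, 0], [0, 0, 0, 0, 0, 0, 0, 1]),
  ([0, 0, 0, 0, 0, 1, 0, 0], [0, 0, 0, 0, 0, 0, 1, 1]),
  ([0, 0, 1, 1, 1, 0, 0, 0], [0, 0, 0, 0, 0, 1, 1, 1]),
  ([1, 1, 1, 1, 1, 1, 0, 0], [0, 0, 1, 1, 1, 1, 1, 1]),
  ([0, 0, 0, -1, 0, 0, 0, 0], [0, -1, 0, 0, 0, 0, 0, 0]),
  ([0, 0, 0, 0, 0, -1, 0, 0], [0, 0, 0, 0, 0, 0, -1, 0]),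
  ([-1, 0, 0, 0, 0, 0, 0, 0], [0, 0, -1, 0, 0, 0, 0, 0]),
  ([0, 0, 0, 0, -1, 0, 0, 0], [0, 0, 0, -1, 0, 0, 0, 0]),
  ([-1, 0, -1, 0, 0, 0, 0, 0], [0, 0, 0, -1, -1, 0, 0, 0]),
  ([0, 0, 0, 0, 0, -1, -1, 0], [-1, 0, -1, -1, -1, 0, 0, 0])]

/-- targets -/
def T1 : List (List ℤ) := [[0, 0, 0, 0, 0, -1, 0, 0],
  [0, 0, 0, 0, 1, 1, 1, 0],
  [0, 0, 0, -1, -1, -1, -1, -1],
  [1, 1, 2, 2, 2, 2, 1, 1],
  [0, -1, 0, -1, 0, 0, 0, 0],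
  [-1, 0, -1, -1, -1, -1, -1, 0]]

theorem ok1 : ok L1 S1 T1 = true := by decide +kernel

/-- the nodes of `D₄` -/
def L0 : List (List ℤ) := [[0, 1, 0, 0, 0, 0, 0, 0],
  [0, 0, 1, 0, 0, 0, 0, 0],
  [0, 0, 0, 1, 0, 0, 0, 0],
  [0, 0, 0, 0, 1, 0, 0, 0],
  [0, -1, 0, 0, 0, 0, 0, 0],
  [0, 0, -1, 0, 0, 0, 0, 0],
  [0, 0, 0, -1, 0, 0, 0, 0],
  [0, 0, 0, 0, -1, 0, 0, 0]]

/-- derivation -/
def S0 : List (List ℤ × List ℤ) := [([0, 0, 0, -1, 0, 0, 0, 0], [0, -1, 0, 0, 0, 0, 0, 0]),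
  ([0, 0, 0, 1, 0, 0, 0, 0], [0, 1, 0, 0, 0, 0, 0, 0])]

/-- targets -/
def T0 : List (List ℤ) := [[0, -1, 0, -1, 0, 0, 0, 0],
  [0, 1, 0, 1, 0, 0, 0, 0]]

theorem ok0 : ok L0 S0 T0 = true := by decide +kernel

/-- the nodes of `D₄` and five more roots -/
def L2 : List (List ℤ) := [[0, 1, 0, 0, 0, 0, 0, 0],
  [0, 0, 1, 0, 0, 0, 0, 0],
  [0, 0, 0, 1, 0, 0, 0, 0],
  [0, 0, 0, 0, 1, 0, 0, 0],
  [0, -1, 0, 0, 0, 0, 0, 0],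
  [0, 0, -1, 0, 0, 0, 0, 0],
  [0, 0, 0, -1, 0, 0, 0, 0],
  [0, 0, 0, 0, -1, 0, 0, 0],
  [0, 0, 0, 0, -1, -1, 0, 0],
  [0, 0, 0, 0, 0, 1, 1, 0],
  [0, 0, -1, -1, -1, -1, -1, -1],
  [1, 1, 1, 2, 2, 2, 1, 1],
  [-1, -1, -1, -1, -1, -1, -1, 0]]

/-- derivation -/
def S2 : List (List ℤ × List ℤ) := [([0, 0, 0, 0, -1, -1, 0, 0], [0, 0, 0, -1, 0, 0, 0, 0]),
  ([1, 1, 1, 2, 2, 2, 1, 1], [0, 0, 0, -1, -1, -1, 0, 0]),
  ([0, 0, -1, -1, -1, -1, -1, -1], [0, -1, 0, 0, 0, 0, 0, 0]),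
  ([1, 1, 1, 1, 1, 1, 1, 1], [0, -1, -1, -1, -1, -1, -1, -1]),
  ([0, 0, 1, 0, 0, 0, 0, 0], [0, 0, -1, -1, -1, -1, -1, -1]),
  ([1, 1, 1, 2, 2, 2, 1, 1], [0, 0, 0, -1, -1, -1, -1, -1]),
  ([-1, -1, -1, -1, -1, -1, -1, 0], [0, 0, 0, 0, 0, 1, 1, 0]),
  ([1, 1, 1, 1, 1, 1, 0, 0], [-1, -1, -1, -1, -1, 0, 0, 0]),
  ([0, 0, 0, 0, 1, 0, 0, 0], [0, 0, 0, 0, 0, 1, 1, 0]),
  ([0, 0, 0, 0, -1, -1, 0, 0], [0, 0, 0, 0, 1, 1, 1, 0]),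
  ([0, 0, 0, -1, 0, 0, 0, 0], [-1, -1, -1, -1, -1, -1, -1, 0]),
  ([1, 1, 1, 2, 2, 2, 1, 1], [0, 0, 0, 0, -1, -1, 0, 0]),
  ([-1, -1, -1, -2, -1, -1, -1, 0], [1, 1, 1, 2, 1, 1, 1, 1]),
  ([-1, -1, -1, -1, -1, 0, 0, 0], [0, 0, 0, 0, 1, 0, 0, 0]),
  ([0, 0, 0, 1, 0, 0, 0, 0], [0, 1, 0, 0, 0, 0, 0, 0]),
  ([0, 0, 1, 0, 0, 0, 0, 0], [0, 1, 0, 1, 0, 0, 0, 0]),
  ([-1, -1, -1, -1, 0, 0, 0, 0], [0, 1, 1, 1, 0, 0, 0, 0]),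
  ([0, 0, 0, 0, -1, -1, 0, 0], [0, 0, 0, 0, 1, 0, 0, 0]),
  ([1, 1, 1, 2, 2, 2, 1, 1], [0, 0, 1, 0, 0, 0, 0, 0]),
  ([0, 0, -1, -1, -1, -1, -1, -1], [-1, -1, -1, -1, -1, -1, -1, 0]),
  ([1, 1, 2, 2, 2, 2, 1, 1], [-1, -1, -2, -2, -2, -2, -2, -1]),
  ([0, 0, 0, 1, 0, 0, 0, 0], [0, 0, 0, -1, -1, -1, -1, -1]),
  ([0, 0, 0, 0, -1, -1, -1, -1], [0, 0, 0, 0, 1, 1, 1, 0])]

/-- targets -/
def T2 : List (List ℤ) := [[1, 0, 0, 0, 0, 0, 0, 0],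
  [0, 0, 0, 0, 0, 1, 0, 0],
  [0, 0, 0, 0, 0, 0, 1, 0],
  [0, 0, 0, 0, 0, 0, 0, 1],
  [-1, 0, 0, 0, 0, 0, 0, 0],
  [0, 0, 0, 0, 0, -1, 0, 0],
  [0, 0, 0, 0, 0, 0, -1, 0],
  [0, 0, 0, 0, 0, 0, 0, -1]]

theorem ok2 : ok L2 S2 T2 = true := by decide +kernel

/-! ### `E₈` -/

theorem cart_eq {A : Fin 8 → Fin 8 → ℤ} (h : IsCartan CoxeterMatrix.E₈ A) : A = C8 := by
  funext i j
  by_cases hij : i = j
  · subst hij
    rw [h.diag, C8_diag]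
  · rcases C8_off i j hij with ⟨h1, h2⟩ | ⟨h1, h2⟩ <;> rcases h.rel i j hij with h3 | h3 | h3 | h3 <;>
      first
      | (exfalso; have := h3.1; omega)
      | (rw [h3.2.1, h2])

theorem toF_sr (i : Fin 8) : toF ((List.finRange 8).map fun j => if j = i then 1 else 0) = sr i := by
  fin_cases i <;> (funext j; fin_cases j <;> rfl)

theorem toF_neg_sr (i : Fin 8) : toF ((List.finRange 8).map fun j => if j = i then -1 else 0) = -sr i := by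
  fin_cases i <;> (funext j; fin_cases j <;> rfl)

theorem mem_L1 : ∀ a ∈ L1, ∃ i : Fin 8, a = ((List.finRange 8).map fun j => if j = i then (1 : ℤ) else 0) ∨
    a = ((List.finRange 8).map fun j => if j = i then (-1 : ℤ) else 0) := by decide +kernel

theorem mem_L0 : ∀ a ∈ L0, ∃ i : Fin 8, i ∈ ({1, 2, 3, 4} : Finset (Fin 8)) ∧
    (a = ((List.finRange 8).map fun j => if j = i then (1 : ℤ) else 0) ∨
    a = ((List.finRange 8).map fun j => if j = i then (-1 : ℤ) else 0)) := by decide +kernel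

theorem mem_L2 : ∀ a ∈ L2, a ∈ L0 ∨ a = [0, 0, 0, 0, -1, -1, 0, 0] ∨ a = [0, 0, 0, 0, 0, 1, 1, 0] ∨
    a = [0, 0, -1, -1, -1, -1, -1, -1] ∨ a = [1, 1, 1, 2, 2, 2, 1, 1] ∨ a = [-1, -1, -1, -1, -1, -1, -1, 0] := by
  decide +kernel

theorem mem_T2 : ∀ i, i ∉ ({1, 2, 3, 4} : Finset (Fin 8)) →
    ((List.finRange 8).map fun j => if j = i then (1 : ℤ) else 0) ∈ T2 ∧
      ((List.finRange 8).map fun j => if j = i then (-1 : ℤ) else 0) ∈ T2 := by decide +kernel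

variable {W Y : Type*} [Group W] [Group Y] [Finite W] {cs : CoxeterSystem CoxeterMatrix.E₈ W}
  {A : Fin 8 → Fin 8 → ℤ} {h : IsCartan CoxeterMatrix.E₈ A} {p : ℕ} {T : Subgroup Y} {n : Fin 8 → Y}
  {X : (Fin 8 → ℤ) → Subgroup Y}

theorem cpr_eq_bf (x : Fin 8 → ℤ) {y : Fin 8 → ℤ} (hy : IsRoot cs h y) : cpr cs h x y = Bf C8 x y := by
  rw [← bf_eq_cpr h4 h6 x hy, cart_eq h]

theorem root_closed (x y : Fin 8 → ℤ) (hx : IsRoot cs h x) (hy : IsRoot cs h y) (hc : Bf C8 x y = -1) :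
    IsRoot cs h (x + y) := isRoot_add hx hy (by rw [cpr_eq_bf x hy, hc])

theorem root_T1 : ∀ a ∈ T1, IsRoot cs h (toF a) := by
  refine ok_imp root_closed ok1 ?_
  intro a ha
  obtain ⟨i, rfl | rfl⟩ := mem_L1 a ha
  · rw [toF_sr]; exact isRoot_sr cs h i
  · rw [toF_neg_sr]; exact (isRoot_sr cs h i).neg

theorem e8_three (R : RGD cs h p T n X) {a : MulAut Y} {r : Fin 8 → ℤ} (hr : IsRoot cs h r)
    (ha : ∀ x, a x ∈ X r ↔ x ∈ X (-r)) (hβ : ∀ i, ∃ w, rep cs h w r = sr i) {k : ℕ} {J : Subgroup Y}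
    (hJ : Reach a k J) (hD : ∀ i ∈ ({1, 2, 3, 4} : Finset (Fin 8)), X (sr i) ≤ J ∧ X (-sr i) ≤ J) :
    ∃ J', Reach a (k + 3) J' ∧ J ≤ J' ∧ ∀ i, X (sr i) ≤ J' ∧ X (-sr i) ≤ J' := by
  have hs : SL cs h := fun x y hx hy => Cfsg.Agent.Nodes.SimplyLaced.cpr_symm cs h h4 h6 hx hy
  have hall : ∀ x, IsRoot cs h x → ∃ w, rep cs h w r = x := by
    rintro x ⟨w, i, rfl⟩
    obtain ⟨w', hw'⟩ := hβ i
    exact ⟨w * w', by rw [rep_mul_apply, hw']⟩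
  -- the closure property
  have hcl : ∀ K : Subgroup Y, ∀ x y, (IsRoot cs h x ∧ X x ≤ K) → (IsRoot cs h y ∧ X y ≤ K) → Bf C8 x y = -1 →
      (IsRoot cs h (x + y) ∧ X (x + y) ≤ K) := fun K x y hx hy hc =>
    ⟨root_closed x y hx.1 hy.1 hc, add_le R hs hx.1 hy.1 (by rw [cpr_eq_bf x hy.1, hc]) hx.2 hy.2⟩
  have hL0 : ∀ {K : Subgroup Y}, J ≤ K → ∀ a ∈ L0, IsRoot cs h (toF a) ∧ X (toF a) ≤ K := by
    intro K hK a ha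
    obtain ⟨i, hi, rfl | rfl⟩ := mem_L0 a ha
    · rw [toF_sr]; exact ⟨isRoot_sr cs h i, (hD i hi).1.trans hK⟩
    · rw [toF_neg_sr]; exact ⟨(isRoot_sr cs h i).neg, (hD i hi).2.trans hK⟩
  have hk : ∀ a ∈ T0, IsRoot cs h (toF a) ∧ X (toF a) ≤ J := ok_imp (hcl J) ok0 (hL0 le_rfl)
  have rt := root_T1 (cs := cs) (h := h)
  -- the first double step
  have p1 := hL0 le_rfl [0, 0, 0, 0, 1, 0, 0, 0] (by decide)
  have p1' := hL0 le_rfl [0, 0, 0, 0, -1, 0, 0, 0] (by decide)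
  have p2 := hL0 le_rfl [0, 0, 0, -1, 0, 0, 0, 0] (by decide)
  have p2' := hL0 le_rfl [0, 0, 0, 1, 0, 0, 0, 0] (by decide)
  rw [show toF [0, 0, 0, 0, -1, 0, 0, 0] = -toF [0, 0, 0, 0, 1, 0, 0, 0] by decide +kernel] at p1'
  rw [show toF [0, 0, 0, 1, 0, 0, 0, 0] = -toF [0, 0, 0, -1, 0, 0, 0, 0] by decide +kernel] at p2'
  have f1 := rt [0, 0, 0, 0, 0, -1, 0, 0] (by decide)
  have f2 := rt [0, 0, 0, 0, 1, 1, 1, 0] (by decide)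
  obtain ⟨J₁, hJ₁, r₁, x₁, x₂⟩ := double R hs hr ha hall hJ p1.1 f1 f2 p2.1 p1.1
    (by rw [cpr_eq_bf _ p1.1]; decide +kernel) (by rw [cpr_eq_bf _ p1.1]; decide +kernel)
    (by rw [cpr_eq_bf _ f2]; decide +kernel) p1.2 p1'.2 p2.2 p2'.2 p1.2 p1'.2
    (by rw [cpr_eq_bf _ f1, cpr_eq_bf _ p1.1]; decide +kernel)
    (Or.inl (by rw [cpr_eq_bf _ f2, cpr_eq_bf _ p1.1]; decide +kernel))
    (by rw [cpr_eq_bf _ f1, cpr_eq_bf _ f2, cpr_eq_bf _ p1.1]; decide +kernel)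
    (by rw [cpr_eq_bf _ f2, cpr_eq_bf _ p1.1]; decide +kernel)
    (Or.inl (by rw [cpr_eq_bf _ f1, cpr_eq_bf _ f2, cpr_eq_bf _ p1.1]; decide +kernel))
  have q₁ := isRoot_sub f1 p1.1 (by rw [cpr_eq_bf _ p1.1]; decide +kernel)
  have q₂ := isRoot_sub f2 p1.1 (by rw [cpr_eq_bf _ p1.1]; decide +kernel)
  -- the second double step
  have p3 := hL0 hJ₁ [0, 0, 1, 0, 0, 0, 0, 0] (by decide)
  have p3' := hL0 hJ₁ [0, 0, -1, 0, 0, 0, 0, 0] (by decide)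
  have p4 := hk [0, -1, 0, -1, 0, 0, 0, 0] (by decide)
  have p4' := hk [0, 1, 0, 1, 0, 0, 0, 0] (by decide)
  rw [show toF [0, 0, -1, 0, 0, 0, 0, 0] = -toF [0, 0, 1, 0, 0, 0, 0, 0] by decide +kernel] at p3'
  rw [show toF [0, 1, 0, 1, 0, 0, 0, 0] = -toF [0, -1, 0, -1, 0, 0, 0, 0] by decide +kernel] at p4'
  have f3 := rt [0, 0, 0, -1, -1, -1, -1, -1] (by decide)
  have f5 := rt [1, 1, 2, 2, 2, 2, 1, 1] (by decide)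
  obtain ⟨J₂, hJ₂, r₂, x₃, x₄⟩ := double R hs hr ha hall r₁ p3.1 f3 f5 p4.1 p3.1
    (by rw [cpr_eq_bf _ p3.1]; decide +kernel) (by rw [cpr_eq_bf _ p3.1]; decide +kernel)
    (by rw [cpr_eq_bf _ f5]; decide +kernel) p3.2 p3'.2 (p4.2.trans hJ₁) (p4'.2.trans hJ₁) p3.2 p3'.2
    (by rw [cpr_eq_bf _ f3, cpr_eq_bf _ p3.1]; decide +kernel)
    (Or.inl (by rw [cpr_eq_bf _ f5, cpr_eq_bf _ p3.1]; decide +kernel))
    (by rw [cpr_eq_bf _ f3, cpr_eq_bf _ f5, cpr_eq_bf _ p3.1]; decide +kernel)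
    (by rw [cpr_eq_bf _ f5, cpr_eq_bf _ p3.1]; decide +kernel)
    (Or.inl (by rw [cpr_eq_bf _ f3, cpr_eq_bf _ f5, cpr_eq_bf _ p3.1]; decide +kernel))
  have q₃ := isRoot_sub f3 p3.1 (by rw [cpr_eq_bf _ p3.1]; decide +kernel)
  have q₅ := isRoot_sub f5 p3.1 (by rw [cpr_eq_bf _ p3.1]; decide +kernel)
  -- the single step
  have p5 := hL0 (hJ₁.trans hJ₂) [0, 1, 0, 0, 0, 0, 0, 0] (by decide)
  have p5' := hL0 (hJ₁.trans hJ₂) [0, -1, 0, 0, 0, 0, 0, 0] (by decide)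
  rw [show toF [0, -1, 0, 0, 0, 0, 0, 0] = -toF [0, 1, 0, 0, 0, 0, 0, 0] by decide +kernel] at p5'
  have f7 := rt [-1, 0, -1, -1, -1, -1, -1, 0] (by decide)
  have c7 : cpr cs h (toF [-1, 0, -1, -1, -1, -1, -1, 0]) (toF [0, 1, 0, 0, 0, 0, 0, 0]) = 1 := by
    rw [cpr_eq_bf _ p5.1]; decide +kernel
  obtain ⟨J₃, hJ₃, r₃, x₅⟩ := single R hs hr ha hall r₂ p5.1 f7 c7 p5.2 p5'.2
  have q₇ := isRoot_sub f7 p5.1 c7
  -- the closure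
  have hJ₁₃ : J₁ ≤ J₃ := hJ₂.trans hJ₃
  have hL2 : ∀ a ∈ L2, IsRoot cs h (toF a) ∧ X (toF a) ≤ J₃ := by
    intro a ha
    rcases mem_L2 a ha with h0 | rfl | rfl | rfl | rfl | rfl
    · exact hL0 (hJ₁.trans hJ₁₃) a h0
    · rw [show toF [0, 0, 0, 0, -1, -1, 0, 0] = toF [0, 0, 0, 0, 0, -1, 0, 0] - toF [0, 0, 0, 0, 1, 0, 0, 0] by
        decide +kernel]
      exact ⟨q₁, x₁.trans hJ₁₃⟩
    · rw [show toF [0, 0, 0, 0, 0, 1, 1, 0] = toF [0, 0, 0, 0, 1, 1, 1, 0] - toF [0, 0, 0, 0, 1, 0, 0, 0] by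
        decide +kernel]
      exact ⟨q₂, x₂.trans hJ₁₃⟩
    · rw [show toF [0, 0, -1, -1, -1, -1, -1, -1] = toF [0, 0, 0, -1, -1, -1, -1, -1] - toF [0, 0, 1, 0, 0, 0, 0, 0] by
        decide +kernel]
      exact ⟨q₃, x₃.trans hJ₃⟩
    · rw [show toF [1, 1, 1, 2, 2, 2, 1, 1] = toF [1, 1, 2, 2, 2, 2, 1, 1] - toF [0, 0, 1, 0, 0, 0, 0, 0] by
        decide +kernel]
      exact ⟨q₅, x₄.trans hJ₃⟩
    · rw [show toF [-1, -1, -1, -1, -1, -1, -1, 0] =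
        toF [-1, 0, -1, -1, -1, -1, -1, 0] - toF [0, 1, 0, 0, 0, 0, 0, 0] by decide +kernel]
      exact ⟨q₇, x₅⟩
  have hfin := ok_imp (hcl J₃) ok2 hL2
  refine ⟨J₃, r₃, hJ₁.trans hJ₁₃, fun i => ?_⟩
  by_cases hi : i ∈ ({1, 2, 3, 4} : Finset (Fin 8))
  · exact ⟨(hD i hi).1.trans (hJ₁.trans hJ₁₃), (hD i hi).2.trans (hJ₁.trans hJ₁₃)⟩
  · obtain ⟨h1, h2⟩ := mem_T2 i hi
    have h3 := (hfin _ h1).2
    have h5 := (hfin _ h2).2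
    rw [toF_sr] at h3
    rw [toF_neg_sr] at h5
    exact ⟨h3, h5⟩

/-- **three more conjugates** -/
theorem e8_top (R : RGD cs h p T n X) (hG : RGD.Sup X {x | IsRoot cs h x} = ⊤) {a : MulAut Y} {r : Fin 8 → ℤ}
    (hr : IsRoot cs h r) (ha : ∀ x, a x ∈ X r ↔ x ∈ X (-r)) (hβ : ∀ i, ∃ w, rep cs h w r = sr i) {k : ℕ}
    {J : Subgroup Y} (hJ : Reach a k J)
    (hD : ∀ i ∈ ({1, 2, 3, 4} : Finset (Fin 8)), X (sr i) ≤ J ∧ X (-sr i) ≤ J) : Reach a (k + 3) ⊤ := by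
  obtain ⟨J', h1, -, h2⟩ := e8_three R hr ha hβ hJ hD
  have h3 : J' = ⊤ := by
    rw [← top_le_iff, ← hG]
    exact RGD.Sup_le fun x hx u hu => Cfsg.Agent.H441.GS.X_le_of_simple R h2 hx hu
  rwa [← h3]

end Cfsg.Agent.H127.Gx
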